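import Groth.Prelude.Def_WittGrp
import Mathlib

/-! Shifts and quasi-F-splittings. -/

universe u
set_option autoImplicit false
set_option linter.style.haveILetI false

noncomputable section

namespace Groth.Agent.QuasiFSplit

variable (p : ℕ) [Fact p.Prime] {m : ℕ} {R : Type u} [CommRing R] [CharP R p] (hp : (p : R) = 0)

theorem mul_shift (Y : WittVector p R) (x : TruncatedWittVector p m R) :
    WittVector.truncate (m + 1) Y * WittGrp.shift p (Nat.le_succ m) x =
      WittGrp.shift p (Nat.le_succ m) (WittGrp.frob p m hp (WittVector.truncate m Y) * x) := by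
  obtain ⟨X, rfl⟩ := WittVector.truncate_surjective p m R x
  rw [WittGrp.frob_truncate, ← map_mul, WittGrp.shift_truncate, WittGrp.shift_truncate,
    show m.succ - m = 1 by omega, Function.iterate_one, ← map_mul]
  congr 1
  rw [mul_comm (WittVector.frobenius Y) X, WittVector.verschiebung_mul_frobenius, mul_comm]

theorem p_mul (Y : WittVector p R) :
    (p : TruncatedWittVector p (m + 1) R) * WittVector.truncate (m + 1) Y =
      WittGrp.shift p (Nat.le_succ m) (WittGrp.frob p m hp (WittVector.truncate m Y)) := by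
  rw [WittGrp.frob_truncate, WittGrp.shift_truncate, show m.succ - m = 1 by omega, Function.iterate_one,
    WittVector.verschiebung_frobenius, map_mul, map_natCast, mul_comm]

theorem shift_injective {x y : TruncatedWittVector p m R}
    (h : WittGrp.shift p (Nat.le_succ m) x = WittGrp.shift p (Nat.le_succ m) y) : x = y := by
  refine TruncatedWittVector.ext fun i => ?_
  have h1 := congrArg (fun z => z.coeff (⟨(i : ℕ) + 1, by omega⟩ : Fin (m + 1))) h
  simp only [WittGrp.coeff_shift] at h1
  rw [dif_pos (show m.succ - m ≤ (i : ℕ) + 1 by omega), dif_pos (show m.succ - m ≤ (i : ℕ) + 1 by omega)] at h1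
  convert h1 using 2 <;> · apply Fin.ext; show (i : ℕ) = i + 1 - (m.succ - m); omega

theorem coeff_zero_shift (x : TruncatedWittVector p m R) :
    (WittGrp.shift p (Nat.le_succ m) x).coeff 0 = 0 := by
  rw [WittGrp.coeff_shift, dif_neg]
  simp

theorem coeff_trunc (hm : 0 < m) (Y : WittVector p R) :
    (WittVector.truncate m Y).coeff ⟨0, hm⟩ = Y.coeff 0 ∧
      (WittVector.truncate (m + 1) Y).coeff 0 = Y.coeff 0 :=
  ⟨WittVector.coeff_truncate _ _, WittVector.coeff_truncate _ _⟩

theorem exists_eq_shift (Y : WittVector p R) (h : Y.coeff 0 = 0) :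
    ∃ x, WittVector.truncate (m + 1) Y = WittGrp.shift p (Nat.le_succ m) x := by
  refine ⟨WittVector.truncate m (WittVector.mk p fun i => Y.coeff (i + 1)), TruncatedWittVector.ext fun i => ?_⟩
  rw [WittGrp.coeff_shift, WittVector.coeff_truncate]
  split_ifs with hi
  · rw [WittVector.coeff_truncate, WittVector.coeff_mk]
    congr 1
    show (i : ℕ) = (i : ℕ) - (m.succ - m) + 1
    omega
  · rw [show (i : ℕ) = 0 by omega, h]

variable (hm : 0 < m) (σ : TruncatedWittVector p m R →+ R)
  (h1 : σ 1 = 1) (hF : ∀ x y : TruncatedWittVector p m R, σ (WittGrp.frob p m hp x * y) = x.coeff ⟨0, hm⟩ * σ y)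

include hF in
theorem exists_shift_mul (y : TruncatedWittVector p (m + 1) R) (x : TruncatedWittVector p m R) (hx : σ x = 0) :
    ∃ x', σ x' = 0 ∧ y * WittGrp.shift p (Nat.le_succ m) x = WittGrp.shift p (Nat.le_succ m) x' := by
  obtain ⟨Y, rfl⟩ := WittVector.truncate_surjective p (m + 1) R y
  exact ⟨_, by rw [hF, hx, mul_zero], mul_shift p hp Y x⟩

include h1 hF in
theorem flatLift (I : Ideal (TruncatedWittVector p (m + 1) R))
    (hI : I = Ideal.span (WittGrp.shift p (Nat.le_succ m) '' {x : TruncatedWittVector p m R | σ x = 0})) :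
    (∀ w : TruncatedWittVector p (m + 1) R,
        Ideal.Quotient.mk I w ∈ Ideal.span ({(p : TruncatedWittVector p (m + 1) R ⧸ I)} : Set _) ↔
          w.coeff 0 = 0) ∧
    (∀ q : TruncatedWittVector p (m + 1) R ⧸ I,
        (p : TruncatedWittVector p (m + 1) R ⧸ I) * q = 0 ↔
          q ∈ Ideal.span ({(p : TruncatedWittVector p (m + 1) R ⧸ I)} : Set _)) := by
  have hmem : ∀ a ∈ I, ∃ x, σ x = 0 ∧ a = WittGrp.shift p (Nat.le_succ m) x := by
    intro a ha
    rw [hI] at ha
    induction ha using Submodule.span_induction with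
    | mem z hz => obtain ⟨x, hx, rfl⟩ := hz; exact ⟨x, hx, rfl⟩
    | zero => exact ⟨0, map_zero σ, (map_zero _).symm⟩
    | add a b _ _ ha hb =>
      obtain ⟨x, hx, rfl⟩ := ha
      obtain ⟨y, hy, rfl⟩ := hb
      exact ⟨x + y, by rw [map_add, hx, hy, add_zero], (map_add _ _ _).symm⟩
    | smul c a _ ha =>
      obtain ⟨x, hx, rfl⟩ := ha
      obtain ⟨x', hx', he⟩ := exists_shift_mul p hp hm σ hF c x hx
      exact ⟨x', hx', he⟩
  have hmem' : ∀ x, σ x = 0 → WittGrp.shift p (Nat.le_succ m) x ∈ I := fun x hx => by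
    rw [hI]; exact Ideal.subset_span ⟨x, hx, rfl⟩
  have hσF : ∀ Y : WittVector p R, σ (WittGrp.frob p m hp (WittVector.truncate m Y)) = Y.coeff 0 := fun Y => by
    rw [← mul_one (WittGrp.frob p m hp _), hF, h1, mul_one, (coeff_trunc p hm Y).1]
  have h0 : ∀ Y : WittVector p R,
      Ideal.Quotient.mk I (WittVector.truncate (m + 1) Y) ∈
        Ideal.span ({(p : TruncatedWittVector p (m + 1) R ⧸ I)} : Set _) ↔ Y.coeff 0 = 0 := by
    intro Y
    rw [Ideal.mem_span_singleton]
    constructor
    · rintro ⟨c, hc⟩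
      obtain ⟨c, rfl⟩ := Ideal.Quotient.mk_surjective c
      obtain ⟨C, rfl⟩ := WittVector.truncate_surjective p (m + 1) R c
      rw [← map_natCast (Ideal.Quotient.mk I), ← map_mul, Ideal.Quotient.eq, p_mul p hp] at hc
      obtain ⟨x, -, hx⟩ := hmem _ hc
      rw [sub_eq_iff_eq_add, ← map_add] at hx
      rw [← (coeff_trunc p hm Y).2, hx, coeff_zero_shift]
    · intro hY
      obtain ⟨x, hx⟩ := exists_eq_shift p (m := m) Y hY
      refine ⟨Ideal.Quotient.mk I (WittVector.truncate (m + 1) (WittVector.teichmuller p (σ x))), ?_⟩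
      rw [← map_natCast (Ideal.Quotient.mk I), ← map_mul, Ideal.Quotient.eq, p_mul p hp, hx, ← map_sub]
      refine hmem' _ ?_
      rw [map_sub, hσF, WittVector.teichmuller_coeff_zero, sub_self]
  refine ⟨fun w => ?_, fun q => ?_⟩
  · obtain ⟨Y, rfl⟩ := WittVector.truncate_surjective p (m + 1) R w
    rw [h0, (coeff_trunc p hm Y).2]
  · obtain ⟨w, rfl⟩ := Ideal.Quotient.mk_surjective q
    obtain ⟨Y, rfl⟩ := WittVector.truncate_surjective p (m + 1) R w
    rw [h0, ← map_natCast (Ideal.Quotient.mk I), ← map_mul, Ideal.Quotient.eq_zero_iff_mem, p_mul p hp]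
    constructor
    · intro h
      obtain ⟨x, hx, hxe⟩ := hmem _ h
      rw [← shift_injective p hxe, hσF] at hx
      exact hx
    · intro h
      exact hmem' _ (by rw [hσF, h])

end Groth.Agent.QuasiFSplit
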